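import Cfsg.Agent.CosetCert.Pack

/-! Generated: the justifications. -/

namespace Cfsg.Agent.Fi23Mult.W3

open Cfsg.Agent.CosetCert

def justStore : Store := (.leaf 0xa000008000060000102008080000e000000008800088000880008800088000880008800088000880008800088000880008800088000880008800088000880008800088000880008800088000880008800088000880008800088000880008800088000880008800088000880008800088000880008800088000880008800088000880008800088000880008800088000880008800088000880008800088000880008800088000880008800017000000000000000)

end Cfsg.Agent.Fi23Mult.W3
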