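import Cfsg.Agent.CosetCert.Pack

/-! Generated: the facts of the log. -/

namespace Cfsg.Agent.Fi23Mult.W3

open Cfsg.Agent.CosetCert

def factStore : Store := (.leaf 0x10000200002000000000000000000200001010000100000)

end Cfsg.Agent.Fi23Mult.W3
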